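import Cfsg.Agent.Rank2.SimpleSyl
import Cfsg.Agent.Known.PSL2Basic
import Cfsg.Agent.Known.SL2Sylow
import Cfsg.Agent.Local.InvolCount
import Cfsg.Agent.S3966
import Cfsg.Agent.S0126

/-!
# Group theoretic tools for two-point stabilisers of odd order
-/

set_option autoImplicit false

namespace Cfsg.Lib.HKS.O2

open Subgroup Cfsg.Lib.Known.GL2
open scoped MatrixGroups

theorem psl_dihedral {F : Type*} [Field F] [Fintype F] (h2 : (2 : F) ≠ 0) :
    ∃ (T : Sylow 2 (PSL2 F)) (n : ℕ), 2 ≤ n ∧ Nonempty (T ≃* DihedralGroup n) := by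
  have := (slLin F).finite
  obtain ⟨P⟩ : Nonempty (Sylow 2 (SL2 F)) := inferInstance
  obtain ⟨i, j, D⟩ := exists_syl2Data h2 P
  obtain ⟨k, hk, -, ⟨e⟩⟩ := D.nonempty_quaternion h2 P.isPGroup'
  obtain ⟨k, rfl⟩ : ∃ l, k = l + 1 := ⟨k - 1, by omega⟩
  obtain ⟨σ, hσ, hσ2⟩ := Agent.S3966.result (2 ^ (k + 1)) (by simp [Nat.even_pow])
  let f := (piSL F).comp (P : Subgroup (SL2 F)).subtype
  have h4 : (σ.comp e.toMonoidHom).ker = f.ker := by
    have h5 : Nat.card (σ.comp e.toMonoidHom).ker = 2 := by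
      rw [← MonoidHom.comap_ker, ← card_map_of_injective (f := e.toMonoidHom) e.injective,
        map_comap_eq_self_of_surjective e.surjective, hσ2]
    refine eq_of_le_of_card_ge (fun x hx => piSL_eq_one_iff.2 ?_) (le_of_eq ?_)
    · have h6 : x ^ Nat.card (σ.comp e.toMonoidHom).ker = 1 :=
        congrArg Subtype.val (pow_card_eq_one' (x := (⟨x, hx⟩ : (σ.comp e.toMonoidHom).ker)))
      rw [h5, sq] at h6
      exact mem_Z_of_mul_self_eq_one_SL h2 (congrArg Subtype.val h6)
    · rw [h5, ← MonoidHom.comap_ker, ker_piSL, comap_subtype,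
        Nat.card_congr (subgroupOfEquivOfLe D.Z_le).toEquiv, card_Z_SL h2]
  refine ⟨P.mapSurjective piSL_surjective, 2 ^ (k + 1), ?_, ⟨(MulEquiv.subgroupCongr (by
    rw [Sylow.coe_mapSurjective, MonoidHom.range_comp, range_subtype])).trans
    ((QuotientGroup.quotientKerEquivRange f).symm.trans
      ((QuotientGroup.quotientMulEquivOfEq h4.symm).trans
        (QuotientGroup.quotientKerEquivOfSurjective _ (hσ.1.comp e.surjective))))⟩⟩
  have := Nat.one_le_two_pow (n := k)
  omega

theorem psl_cent {F : Type*} [Field F] {g x y : PSL2 F} (hg : g * g ≠ 1) (hx : x * g = g * x)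
    (hy : y * g = g * y) : x * y = y * x := by
  obtain ⟨g, rfl⟩ := piSL_surjective g
  obtain ⟨x, rfl⟩ := piSL_surjective x
  obtain ⟨y, rfl⟩ := piSL_surjective y
  have hZ : g ∉ (slLin F).Z := fun h => hg (by rw [piSL_eq_one_iff.2 h, one_mul])
  have ht : ((slLin F).ρ g).trace ≠ 0 := fun h => hg (by
    rw [← piSL_neg g, ← inv_eq_neg_of_trace h]
    nth_rw 2 [← piSL_neg]
    rw [inv_eq_neg_of_trace h, neg_neg, ← inv_eq_neg_of_trace h, ← map_mul, inv_mul_cancel, map_one])
  have h1 := mem_centralizer_singleton_iff.2 hx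
  have h2 := mem_centralizer_singleton_iff.2 hy
  rw [← mem_comap, comap_centralizer_piSL_of_trace (Or.inr ht)] at h1 h2
  rw [← map_mul, (slLin F).centralizer_comm hZ h1 h2, map_mul]

/-- The final contradiction. -/
theorem fin {M : Type*} [Group M] [Finite M] [IsSimpleGroup M] {K : Type*} [Field K] [Fintype K]
    (h2 : (2 : K) ≠ 0) (ι : PSL2 K →* M) (hι : Function.Injective ι) (ho : Odd ι.range.index)
    (hc : 168 ≤ Nat.card ι.range) (hn : ∃ x ∈ ι.range, ∃ z ∈ ι.range, x * z ≠ z * x) {y : M}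
    (hy : y * y ≠ 1) (hyL : y ∉ ι.range) (hL : ∀ x ∈ ι.range, x * y = y * x) : False := by
  have := (slLin K).finite
  obtain ⟨x, hx, z, hz, hxz⟩ := hn
  have hna : ¬ IsMulCommutative M := fun h => hxz (h.1.1 x z)
  obtain ⟨T, n, hn, ⟨e⟩⟩ := psl_dihedral h2
  have hi : ¬ 2 ∣ ((T : Subgroup (PSL2 K)).map ι).index := by
    rw [← relIndex_mul_index (map_le_range ι _), ι.range_eq_map,
      relIndex_map_map_of_injective _ _ hι, relIndex_top_right, ← ι.range_eq_map]
    exact fun h => (Nat.prime_two.dvd_mul.1 h).elim T.not_dvd_index ho.not_two_dvd_nat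
  let S : Sylow 2 M := (T.isPGroup'.map ι).toSylow hi
  rcases Rank2.simple_of_dihedral hna S hn
    (((T : Subgroup (PSL2 K)).equivMapOfInjective ι hι).symm.trans e) with
    ⟨F, _, _, -, -, ⟨f⟩⟩ | ⟨⟨f⟩⟩
  · refine hxz (f.injective ?_)
    rw [map_mul, map_mul]
    exact psl_cent (g := f y) (fun h => hy (f.injective (by rw [map_mul, h, map_one])))
      (by rw [← map_mul, hL x hx, map_mul]) (by rw [← map_mul, hL z hz, map_mul])
  · have h1 : Nat.card M = 2520 := by
      rw [Nat.card_congr f.toEquiv, nat_card_alternatingGroup, Nat.card_eq_fintype_card,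
        Fintype.card_fin]
      rfl
    have h3 : ι.range ≤ centralizer {y} := fun x hx => mem_centralizer_singleton_iff.2 (hL x hx)
    have h4 : centralizer {y} ≠ (⊤ : Subgroup M) := fun h => by
      rcases (inferInstance : (center M).Normal).eq_bot_or_eq_top with k | k
      · have : y ∈ center M := mem_center_iff.2 fun g =>
          mem_centralizer_singleton_iff.1 (h.ge (mem_top g))
        rw [k, mem_bot] at this
        exact hy (by rw [this, one_mul])
      · exact hxz (mem_center_iff.1 (k.ge (mem_top z)) x)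
    have h5 := Local.card_dvd_factorial_index h4
    have h6 := relIndex_mul_index h3
    have h7 := ι.range.index_mul_card
    have h8 : ι.range.relIndex (centralizer {y}) ≠ 1 := fun h =>
      hyL (relIndex_eq_one.1 h (mem_centralizer_singleton_iff.2 rfl))
    rw [← h6] at ho h7
    obtain ⟨k, hk⟩ := (Nat.odd_mul.1 ho).1
    have h9 : (centralizer {y} : Subgroup M).index ≤ 5 := by
      by_contra h
      have : 3 * 6 * 168 ≤ ι.range.relIndex (centralizer {y}) * (centralizer {y} : Subgroup M).index *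
          Nat.card ι.range := Nat.mul_le_mul (Nat.mul_le_mul (by omega) (by omega)) hc
      omega
    have := h5.trans (Nat.factorial_dvd_factorial h9)
    rw [h1] at this
    exact absurd this (by decide)

/-- An element of prime order of a noncyclic odd `r`-group lies in a subgroup of type `(r, r)`. -/
theorem exists_pair {G : Type*} [Group G] [Finite G] {r : ℕ} (hr : r.Prime) (h2 : r ≠ 2)
    {R : Subgroup G} (hR : IsPGroup r R) (hc : ¬ IsCyclic R) {d : G} (hd : d ∈ R)
    (ho : orderOf d = r) : ∃ y ∈ R, y ^ r = 1 ∧ y ∉ zpowers d ∧ d * y = y * d := by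
  have := Fact.mk hr
  obtain ⟨z, hz, h1, h3⟩ := exists_central_orderOf hR fun h => hc (h ▸ inferInstance)
  by_cases h4 : z ∈ zpowers d
  swap
  · exact ⟨z, hz, h1 ▸ pow_orderOf_eq_one z, h4, h3 d hd⟩
  have h5 : d ∈ zpowers z := by
    have : zpowers z = zpowers d := eq_of_le_of_card_ge (zpowers_le.2 h4)
      (by rw [Nat.card_zpowers, Nat.card_zpowers, h1, ho])
    exact this ▸ mem_zpowers d
  obtain ⟨A, -, hA, h6⟩ := Agent.S0126.result h2 hR hc
  have : ¬ A.map R.subtype ≤ zpowers d := fun h => by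
    have := card_le_of_le h
    rw [card_map_of_injective R.subtype_injective, h6, Nat.card_zpowers, ho] at this
    nlinarith [hr.two_le]
  obtain ⟨_, ⟨y, hy, rfl⟩, h7⟩ := SetLike.not_le_iff_exists.1 this
  refine ⟨y, y.2, ?_, h7, ?_⟩
  · exact congrArg Subtype.val (hA.2 y hy)
  · obtain ⟨k, rfl⟩ := h5
    exact (Commute.zpow_right (h3 y y.2) k).eq.symm

end Cfsg.Lib.HKS.O2
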