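import Cfsg.Agent.Class.HermField

/-!
# Split doubly transitive groups: semilinear maps of finite fields of odd order
-/

set_option autoImplicit false

namespace Cfsg.Lib.HKS.L1

theorem four_dvd {α : Type*} [Finite α] (f : Equiv.Perm α) (h4 : f ^ 4 = 1)
    (hf : ∀ x, f (f x) ≠ x) : 4 ∣ Nat.card α := by
  classical
  rcases isEmpty_or_nonempty α with h | ⟨⟨x₀⟩⟩
  · simp
  have ho : orderOf f = 2 ^ (1 + 1) := orderOf_eq_prime_pow
    (fun e => hf x₀ (by simpa [pow_two] using DFunLike.congr_fun e x₀)) h4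
  have h : ∀ x : α, MulAction.stabilizer (Subgroup.zpowers f) x = ⊥ := fun x =>
    eq_bot_iff.2 fun ⟨u, hu⟩ hx => by
      obtain ⟨j, h1, rfl⟩ := Finset.mem_image.1 (mem_zpowers_iff_mem_range_orderOf.1 hu)
      rw [ho, Finset.mem_range] at h1
      have h2 : (f ^ j) x = x := hx
      have h3 : f (f (f (f x))) = x := by simpa [pow_succ] using DFunLike.congr_fun h4 x
      norm_num at h1
      interval_cases j
      · exact Subtype.ext (pow_zero f)
      · exact absurd (by rw [pow_one] at h2; rw [h2, h2]) (hf x)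
      · exact absurd (by simpa [pow_succ] using h2) (hf x)
      · have h5 : f (f (f x)) = x := by simpa [pow_succ] using h2
        rw [h5] at h3
        exact absurd (by rw [h3, h3]) (hf x)
  rw [Nat.card_congr (MulAction.selfEquivOrbitsQuotientProd h), Nat.card_prod, Nat.card_zpowers, ho]
  exact Dvd.intro_left _ rfl

variable {K : Type*} [Field K] [Finite K] {σ : K ≃+* K} {c : K}

theorem char_ne (h : Odd (Nat.card K)) : ringChar K ≠ 2 := fun e => by
  have := Fintype.ofFinite K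
  rw [Nat.card_eq_fintype_card, Nat.odd_iff, FiniteField.even_card_iff_char_two.1 e] at h
  exact zero_ne_one h

theorem two_ne (h : Odd (Nat.card K)) : (2 : K) ≠ 0 := Ring.two_ne_zero (char_ne h)

theorem sq_neg_one : IsSquare (-1 : K) ↔ Nat.card K % 4 ≠ 3 := by
  have := Fintype.ofFinite K
  rw [Nat.card_eq_fintype_card, FiniteField.isSquare_neg_one_iff]

theorem sq_neg (h : Nat.card K % 4 = 3) (hc : ¬ IsSquare c) : ∃ s : K, s ≠ 0 ∧ c = -(s ^ 2) := by
  classical
  have := Fintype.ofFinite K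
  have h0 : c ≠ 0 := fun e => hc (e ▸ IsSquare.zero)
  have h1 : quadraticChar K (-1 * c) = 1 := by
    rw [map_mul, quadraticChar_neg_one_iff_not_isSquare.2 hc,
      quadraticChar_neg_one_iff_not_isSquare.2 fun e => sq_neg_one.1 e h]
    norm_num
  obtain ⟨s, hs⟩ := (quadraticChar_one_iff_isSquare (by simpa using h0)).1 h1
  exact ⟨s, fun e => h0 (by simpa [e] using hs), by linear_combination -hs⟩

theorem pm_one (h : Nat.card K % 4 = 3) (k : ℕ) : ∀ c : K, c ^ 2 ^ k = 1 → c = 1 ∨ c = -1 := by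
  induction k with
  | zero => exact fun c hc => Or.inl (by simpa using hc)
  | succ k ih =>
    intro c hc
    rcases ih (c ^ 2) (by rw [← pow_mul, ← pow_succ', hc]) with h1 | h1
    · exact sq_eq_one_iff.1 h1
    · exact absurd h (sq_neg_one.1 ⟨c, by rw [← h1, pow_two]⟩)

omit [Finite K] in
theorem eq_one_of {c' : K} (hc : c ≠ 0) (h : ∀ y, c * σ y = c' * y) : σ = 1 := by
  have h1 := h 1
  rw [map_one] at h1
  exact RingEquiv.ext fun y => mul_left_cancel₀ hc (by rw [h y, mul_right_cancel₀ one_ne_zero h1]; rfl)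

omit [Finite K] in
theorem ne_id (h : σ ≠ 1) : (σ : K →+* K) ≠ RingHom.id K := fun e =>
  h (RingEquiv.ext fun y => DFunLike.congr_fun e y)

theorem exists_inv {H : Type*} [Group H] (k : ℕ) : ∀ x : H, x ≠ 1 → x ^ 2 ^ k = 1 →
    ∃ y : H, y ≠ 1 ∧ y * y = 1 := by
  induction k with
  | zero => exact fun x h1 h2 => absurd (by simpa using h2) h1
  | succ k ih =>
    intro x h1 h2
    by_cases h3 : x * x = 1
    · exact ⟨x, h1, h3⟩
    · exact ih _ h3 (by rw [← pow_two, ← pow_mul, ← pow_succ', h2])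

theorem aut_one (h : Nat.card K % 4 = 3 ∨ Nat.card K % 8 = 5) {k : ℕ} (hk : σ ^ 2 ^ k = 1) :
    σ = 1 := by
  by_contra h1
  obtain ⟨τ, h2, h3⟩ := exists_inv k σ h1 hk
  have := Fintype.ofFinite K
  obtain ⟨q, h4, -⟩ := Class.Form.exists_card_eq_sq (ne_id h2) fun a => DFunLike.congr_fun h3 a
  rw [Nat.card_eq_fintype_card, h4] at h
  have h5 : q % 8 < 8 := Nat.mod_lt _ (by norm_num)
  have h6 : q ^ 2 % 8 = (q % 8) ^ 2 % 8 := Nat.pow_mod _ _ _
  interval_cases q % 8 <;> omega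

/-- The fixed points of a semilinear involution. -/
theorem card_fix (ho : Odd (Nat.card K)) (h1 : σ ≠ 1) (h : ∀ y, c * σ (c * σ y) = y) :
    {y | c * σ y = y}.ncard ^ 2 = Nat.card K := by
  have h2 : c * σ c = 1 := by simpa using h 1
  have h3 : ∀ y, σ (σ y) = y := fun y => by
    have := h y
    rwa [map_mul, ← mul_assoc, h2, one_mul] at this
  obtain ⟨z, hz⟩ : ∃ z, σ z ≠ z := by
    by_contra hn
    push Not at hn
    exact h1 (RingEquiv.ext hn)
  obtain ⟨δ, h4, h5⟩ : ∃ δ, δ ≠ 0 ∧ σ δ = -δ :=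
    ⟨z - σ z, sub_ne_zero.2 hz.symm, by rw [map_sub, h3, neg_sub]⟩
  have t2 := two_ne ho
  have s2 : σ 2 = 2 := map_ofNat σ 2
  rw [← Nat.card_coe_set_eq, pow_two, ← Nat.card_prod]
  refine Nat.card_congr ⟨fun p => p.1 + δ * p.2, fun y => ⟨⟨(y + c * σ y) / 2, ?_⟩,
    ⟨(y - c * σ y) / (2 * δ), ?_⟩⟩, fun ⟨⟨u, hu⟩, ⟨v, hv⟩⟩ => ?_, fun y => ?_⟩
  · rw [Set.mem_setOf_eq, map_div₀, map_add, s2, ← mul_div_assoc, mul_add, h, add_comm]
  · rw [Set.mem_setOf_eq, map_div₀, map_sub, map_mul σ 2, s2, h5, ← mul_div_assoc, mul_sub, h]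
    field_simp
    ring
  · have e : c * σ (u + δ * v) = u - δ * v := by
      rw [map_add, map_mul, h5, mul_add, Set.mem_setOf_eq.mp hu]
      linear_combination (-δ) * Set.mem_setOf_eq.mp hv
    refine Prod.ext (Subtype.ext ?_) (Subtype.ext ?_) <;> simp only [e] <;> field_simp <;> ring
  · field_simp
    ring

theorem three_norm (ho : Odd (Nat.card K)) (h1 : σ ≠ 1) (h2 : ∀ y, σ (σ y) = y) (hc : c ≠ 0)
    (h3 : σ c = c) : ∃ x y z : K, x ≠ y ∧ x ≠ z ∧ y ≠ z ∧
      ∀ w ∈ ({x, y, z} : Set K), w ≠ 0 ∧ c / σ w = w := by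
  obtain ⟨x, hx⟩ := Class.Form.exists_norm_eq (ne_id h1) h2 h3
  obtain ⟨ν, h4, h5⟩ := Class.Form.exists_norm_eq_not_fixed (ne_id h1) h2 one_ne_zero (map_one _)
  replace hx : σ x * x = c := hx
  replace h4 : σ ν ≠ ν := h4
  replace h5 : σ ν * ν = 1 := h5
  have x0 : x ≠ 0 := fun e => hc (by rw [← hx, e, mul_zero])
  have key : ∀ w, σ w * w = c → w ≠ 0 ∧ c / σ w = w := fun w hw => by
    have w0 : w ≠ 0 := fun e => hc (by rw [← hw, e, mul_zero])
    exact ⟨w0, by rw [← hw, mul_div_cancel_left₀ _ ((map_ne_zero σ).2 w0)]⟩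
  refine ⟨x, -x, ν * x, fun e => x0 ((mul_eq_zero.1 (by linear_combination e)).resolve_left
    (two_ne ho)), fun e => h4 ?_, fun e => h4 ?_, ?_⟩
  · rw [show ν = 1 from mul_right_cancel₀ x0 (by rw [← e, one_mul]), map_one]
  · rw [show ν = -1 from mul_right_cancel₀ x0 (by rw [← e, neg_one_mul]), map_neg, map_one]
  · rintro w (rfl | rfl | rfl)
    exacts [key _ hx, key _ (by rw [map_neg, neg_mul_neg, hx]),
      key _ (by rw [map_mul]; linear_combination (σ x * x) * h5 + hx)]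

omit [Finite K] in
/-- A semilinear map of prime order has a non-zero fixed point. -/
theorem exists_fix {r : ℕ} (hr : r.Prime) (h1 : σ ≠ 1)
    (h : ∀ y, (fun y => c * σ y)^[r] y = y) : ∃ y, y ≠ 0 ∧ c * σ y = y := by
  have a1 : ∀ n, ∃ c', (n = 0 → c' = 1) ∧ ∀ y, (fun y => c * σ y)^[n] y = c' * (σ ^ n) y := fun n => by
    induction n with
    | zero => exact ⟨1, fun _ => rfl, fun y => by simp⟩
    | succ n ih =>
      obtain ⟨c', -, hc'⟩ := ih
      exact ⟨c * σ c', fun e => absurd e n.succ_ne_zero, fun y => by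
        rw [Function.iterate_succ_apply', hc', map_mul, pow_succ', mul_assoc]; rfl⟩
  choose f f0 hf using a1
  have a2 : σ ^ r = 1 := eq_one_of (c := f r) (c' := 1)
    (fun e => by simpa [hf, e] using h 1) fun y => by rw [← hf, h, one_mul]
  have := Fact.mk hr
  have a3 := orderOf_eq_prime a2 h1
  have a4 : Function.Injective fun i : Fin r => ((σ ^ (i : ℕ) : K ≃+* K) : K →* K) :=
    fun i j e => Fin.ext (pow_injOn_Iio_orderOf (a3 ▸ i.2) (a3 ▸ j.2)
      (RingEquiv.ext fun y => DFunLike.congr_fun e y))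
  have a5 := Fintype.linearIndependent_iff.1 ((linearIndependent_monoidHom K K).comp _ a4)
    fun i => f i
  by_contra hn
  push Not at hn
  refine one_ne_zero ((f0 0 rfl).symm.trans (a5 (funext fun z => ?_) ⟨0, hr.pos⟩))
  have a6 : (∑ i : Fin r, f i • ((fun f => f : (K →* K) → K → K) ∘
      fun i : Fin r => ((σ ^ (i : ℕ) : K ≃+* K) : K →* K)) i) z =
      ∑ i ∈ Finset.range r, (fun y => c * σ y)^[i] z := by
    rw [Finset.sum_apply, Finset.sum_range]
    exact Finset.sum_congr rfl fun i _ => (hf i z).symm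
  rw [a6]
  by_contra h0
  refine hn _ h0 ?_
  rw [map_sum, Finset.mul_sum]
  have a7 := Finset.sum_range_succ' (fun i => (fun y => c * σ y)^[i] z) r
  rw [Finset.sum_range_succ, h] at a7
  simp only [Function.iterate_succ_apply'] at a7
  exact (add_right_cancel a7).symm

end Cfsg.Lib.HKS.L1
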