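import Mathlib

/-!
# A matrix with a quadratic minimal polynomial and a rank one eigenspace
-/

set_option autoImplicit false

namespace Cfsg.Lib.HKS.SF

open Matrix Polynomial

variable {ι : Type*} [Fintype ι] [DecidableEq ι]

theorem trace_idem {P : Matrix ι ι ℂ} (h : P * P = P) :
    trace P = Module.finrank ℂ (LinearMap.range (toLin' P)) := by
  rw [← trace_toLin'_eq]
  refine LinearMap.IsProj.trace ⟨fun x => ⟨x, rfl⟩, ?_⟩
  rintro _ ⟨x, rfl⟩
  rw [← toLin'_mul_apply, h]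

theorem nat_idem {P : Matrix ι ι ℂ} (h : P * P = P) : ∃ m : ℕ, trace P = m := ⟨_, trace_idem h⟩

theorem int_of {z : ℂ} (hz : IsIntegral ℤ z) {k m : ℤ} (hk : k ≠ 0) (h : k * z = m) :
    ∃ l : ℤ, z = l := by
  have e : z = algebraMap ℚ ℂ (m / k) := by
    have : (k : ℂ) ≠ 0 := Int.cast_ne_zero.2 hk
    simp only [map_div₀, map_intCast]
    field_simp
    rw [← h, mul_comm]
  rw [e, isIntegral_algebraMap_iff (algebraMap ℚ ℂ).injective] at hz
  obtain ⟨l, hl⟩ := IsIntegrallyClosed.isIntegral_iff.1 hz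
  exact ⟨l, by rw [e, ← hl]; simp⟩

theorem arith {a b k : ℤ} {n : ℕ} (hn : 0 < n) (h1 : a * b = n) (h2 : k * (a + b) = n + 1)
    (h3 : ∀ p : ℕ, p.Prime → p ∣ n → |a| < p ∨ |b| < p) : k * a = 1 ∨ k * b = 1 := by
  have key : ∀ {a b : ℤ}, a * b = n → k * (a + b) = n + 1 → a.natAbs = 1 → k * a = 1 := by
    intro a b h1 h2 h
    have h0 : (n + 1 : ℤ) ≠ 0 := by omega
    rcases Int.natAbs_eq_iff.1 h with rfl | rfl
    · refine mul_right_cancel₀ h0 ?_
      simp only [Nat.cast_one] at *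
      linear_combination h2 - k * h1
    · refine mul_right_cancel₀ h0 ?_
      simp only [Nat.cast_one] at *
      linear_combination h2 + k * h1
  by_cases ha : a.natAbs = 1
  · exact Or.inl (key h1 h2 ha)
  by_cases hb : b.natAbs = 1
  · exact Or.inr (key (by rw [← h1, mul_comm]) (by rw [← h2, add_comm]) hb)
  exfalso
  have hn' : a.natAbs * b.natAbs = n := by rw [← Int.natAbs_mul, h1]; simp
  obtain ⟨p, hp, hpa⟩ := Nat.exists_prime_and_dvd ha
  obtain ⟨q, hq, hqb⟩ := Nat.exists_prime_and_dvd hb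
  have a0 : 0 < a.natAbs := Nat.pos_of_ne_zero fun e => by rw [e] at hn'; omega
  have b0 : 0 < b.natAbs := Nat.pos_of_ne_zero fun e => by rw [e] at hn'; omega
  have l1 := Nat.le_of_dvd a0 hpa
  have l2 := Nat.le_of_dvd b0 hqb
  have e1 := h3 p hp (hn' ▸ hpa.mul_right _)
  have e2 := h3 q hq (hn' ▸ hqb.mul_left _)
  rw [Int.abs_eq_natAbs, Int.abs_eq_natAbs] at e1 e2
  omega

theorem arith2 {a b k f : ℤ} {p q i j : ℕ} (hq : 0 < q) (h2 : k * (a + b) = p * q + 1)
    (h3 : i * (a + b) = q * (f + a)) (h4 : i + j = q) : f = -a ∨ f = b := by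
  have h0 : a + b ≠ 0 := fun e => by
    rw [e, mul_zero] at h2
    have : (0 : ℤ) ≤ p * q := by positivity
    omega
  obtain ⟨t, ht⟩ : a + b ∣ f + a :=
    (show IsCoprime (a + b) (q : ℤ) from ⟨k, -p, by linear_combination h2⟩).dvd_of_dvd_mul_left
      ⟨i, by rw [← h3, mul_comm]⟩
  have h5 : (i : ℤ) = q * t := mul_right_cancel₀ h0 (by rw [h3, ht]; ring)
  have h6 : (i : ℤ) + j = q := by exact_mod_cast h4
  have h7 : 0 ≤ t := by
    by_contra h
    have : (q : ℤ) * t < 0 := mul_neg_of_pos_of_neg (by exact_mod_cast hq) (by omega)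
    omega
  have h8 : t ≤ 1 := by
    by_contra h
    have : (q : ℤ) * 2 ≤ q * t := mul_le_mul_of_nonneg_left (by omega) (by omega)
    omega
  interval_cases t
  · left; omega
  · right; omega

theorem rank_one {T W : Matrix ι ι ℂ} {n : ℕ} {β : ℂ} (hn : 0 < n) (hN : Fintype.card ι = n + 1)
    (hT : T * T = (n : ℂ) • 1 + β • T) (hβ : IsIntegral ℤ β) (t0 : trace T = 0) (hW : W * W = 1)
    (hWT : W * T = T * W) (w0 : trace W = 0) (wT : trace (W * T) = n + 1)
    (hp : ∀ p : ℕ, p.Prime → p ∣ n → ∃ (S : Matrix ι ι ℂ) (f : ℂ), S * S = (p : ℂ) • S ∧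
      S * T = T * S ∧ trace S = n ∧ trace (S * T) = n * f ∧ IsIntegral ℤ f ∧ ‖f‖ < p) :
    ∃ α γ : ℂ, γ ≠ 0 ∧ (α • T + γ • 1) * (α • T + γ • 1) = α • T + γ • 1 ∧
      trace (α • T + γ • 1) = 1 := by
  obtain ⟨δ, hδ⟩ := IsAlgClosed.exists_eq_mul_self (β * β + 4 * n)
  have n1 : (n : ℂ) + 1 ≠ 0 := by exact_mod_cast Nat.succ_ne_zero n
  obtain ⟨l, rfl⟩ : ∃ l, δ = β + 2 * l := ⟨(δ - β) / 2, by ring⟩
  have hl : l * (β + l) = n := by linear_combination -hδ / 4
  obtain ⟨A, hA⟩ : ∃ A, A = T + l • (1 : Matrix ι ι ℂ) := ⟨_, rfl⟩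
  have AA : A * A = (β + 2 * l) • A := by
    simp only [hA, add_mul, mul_add, hT, smul_mul_assoc, mul_smul_comm, one_mul, mul_one, ← hl]
    module
  have cA : ∀ S : Matrix ι ι ℂ, S * T = T * S → S * A = A * S := fun S h => by
    simp only [hA, add_mul, mul_add, h, smul_mul_assoc, mul_smul_comm, one_mul, mul_one]
  have tA : ∀ S : Matrix ι ι ℂ, trace (S * A) = trace (S * T) + l * trace S := fun S => by
    simp only [hA, mul_add, trace_add, mul_smul_comm, mul_one, trace_smul, smul_eq_mul]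
  have δ0 : β + 2 * l ≠ 0 := fun e => by
    have : IsNilpotent (W * A) := ⟨2, by
      rw [sq, mul_assoc, ← mul_assoc A, ← cA W hWT, mul_assoc W, AA, e]; simp⟩
    have := (isNilpotent_trace_of_isNilpotent this).eq_zero
    rw [tA, wT, w0, mul_zero, add_zero] at this
    exact n1 this
  obtain ⟨E, hE⟩ : ∃ E, E = (β + 2 * l)⁻¹ • A := ⟨_, rfl⟩
  have EE : E * E = E := by
    rw [hE, smul_mul_assoc, mul_smul_comm, AA, smul_smul _ (β + 2 * l), inv_mul_cancel₀ δ0,
      one_smul]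
  have key : ∀ S : Matrix ι ι ℂ, S * S = S → S * T = T * S → ∃ i j : ℕ, i * (β + 2 * l) =
      trace (S * T) + l * trace S ∧ (i : ℂ) + j = trace S := fun S h1 h2 => by
    have c : S * E = E * S := by rw [hE, smul_mul_assoc, mul_smul_comm, cA S h2]
    have e1 : S * E * (S * E) = S * E := by
      rw [mul_assoc, ← mul_assoc E, ← c, mul_assoc S, EE, ← mul_assoc, h1]
    obtain ⟨i, hi⟩ := nat_idem e1
    obtain ⟨j, hj⟩ := nat_idem (P := S - S * E) (by
      rw [sub_mul, mul_sub, mul_sub, e1, ← mul_assoc, h1, mul_assoc S E, ← c, ← mul_assoc, h1]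
      simp)
    refine ⟨i, j, ?_, by rw [← hi, ← hj, trace_sub]; ring⟩
    rw [← hi, ← tA, hE, mul_smul_comm, trace_smul, smul_eq_mul]
    field_simp
  obtain ⟨m, m', hm, hm'⟩ := key 1 (mul_one _) (by simp)
  rw [one_mul, t0, zero_add, trace_one, hN] at hm
  rw [trace_one, hN] at hm'
  obtain ⟨c, -, hc, -⟩ := key ((2 : ℂ)⁻¹ • (1 + W)) (by
      simp only [add_mul, mul_add, hW, smul_mul_assoc, mul_smul_comm, one_mul, mul_one]
      module)
    (by simp only [add_mul, mul_add, hWT, smul_mul_assoc, mul_smul_comm, one_mul, mul_one])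
  simp only [add_mul, smul_mul_assoc, one_mul, trace_smul, trace_add, t0, wT, w0, trace_one, hN,
    smul_eq_mul] at hc
  push_cast at hm hm' hc
  obtain ⟨k, hk⟩ : ∃ k : ℤ, k * (β + 2 * l) = n + 1 :=
    ⟨2 * c - m, by push_cast; linear_combination 2 * hc - hm⟩
  have k0 : k ≠ 0 := fun e => n1 (by rw [← hk, e]; simp)
  have h1 : k * l = (m : ℤ) := mul_right_cancel₀ δ0 (by
    push_cast; linear_combination l * hk - hm)
  have h2 : k * β = (n + 1 - 2 * m : ℤ) := by
    push_cast at h1 ⊢; linear_combination hk - 2 * h1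
  obtain ⟨B, rfl⟩ := int_of hβ k0 h2
  obtain ⟨a, rfl⟩ := int_of (z := l) ⟨X ^ 2 + (C B * X - C (n : ℤ)), by monicity!, by
    rw [eval₂_add, eval₂_sub, eval₂_mul, eval₂_C, eval₂_C, eval₂_X, eval₂_X_pow]
    simp only [eq_intCast, Int.cast_natCast]
    linear_combination hl⟩ k0 h1
  have hk' : k * (a + (B + a)) = n + 1 := by
    have : ((k * (a + (B + a)) : ℤ) : ℂ) = (n + 1 : ℤ) := by push_cast; linear_combination hk
    exact_mod_cast this
  have hl' : a * (B + a) = n := by exact_mod_cast hl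
  have a0 : (a : ℂ) ≠ 0 := fun e => by
    rw [e, zero_mul] at hl
    exact hn.ne (by exact_mod_cast hl)
  have b0 : (B : ℂ) + a ≠ 0 := fun e => by
    rw [e, mul_zero] at hl
    exact hn.ne (by exact_mod_cast hl)
  have tE : trace E = k * a := by
    have := tA 1
    rw [one_mul, one_mul, t0, trace_one, hN] at this
    rw [hE, trace_smul, this, smul_eq_mul]
    push_cast
    field_simp
    linear_combination -(a : ℂ) * hk
  have hpr : ∀ p : ℕ, p.Prime → p ∣ n → |a| < p ∨ |B + a| < p := by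
    rintro p pp ⟨q, hq⟩
    obtain ⟨S, f, s1, s2, s3, s4, s5, s6⟩ := hp p pp ⟨q, hq⟩
    have p0 : (p : ℂ) ≠ 0 := Nat.cast_ne_zero.2 pp.ne_zero
    have q0 : 0 < q := Nat.pos_of_ne_zero fun e => by rw [e] at hq; omega
    obtain ⟨i, j, hi, hj⟩ := key ((p : ℂ)⁻¹ • S) (by
        rw [smul_mul_assoc, mul_smul_comm, s1, smul_smul _ (p : ℂ), inv_mul_cancel₀ p0, one_smul])
      (by rw [smul_mul_assoc, mul_smul_comm, s2])
    have e : (p : ℂ)⁻¹ * n = q := by rw [hq]; push_cast; field_simp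
    rw [trace_smul, s3, smul_eq_mul, e] at hi hj
    rw [smul_mul_assoc, trace_smul, s4, smul_eq_mul, ← mul_assoc, e] at hi
    obtain ⟨F, rfl⟩ := int_of s5 (k := q) (m := i * (B + 2 * a) - a * q) (by omega)
      (by push_cast; linear_combination -hi)
    have h3 : (i : ℤ) * (a + (B + a)) = q * (F + a) := by
      have : ((i * (a + (B + a)) : ℤ) : ℂ) = (q * (F + a) : ℤ) := by
        push_cast; linear_combination hi
      exact_mod_cast this
    have h4 : |F| < p := by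
      rw [Complex.norm_intCast] at s6
      exact_mod_cast s6
    rcases arith2 q0 (by rw [hk', hq]; push_cast; rfl) h3 (by exact_mod_cast hj) with e | e
    · left; rwa [e, abs_neg] at h4
    · right; rwa [e] at h4
  rcases arith hn hl' hk' hpr with h | h
  · refine ⟨((B : ℂ) + 2 * a)⁻¹, ((B : ℂ) + 2 * a)⁻¹ * a, mul_ne_zero (inv_ne_zero δ0) a0, ?_⟩
    rw [show ((B : ℂ) + 2 * a)⁻¹ • T + (((B : ℂ) + 2 * a)⁻¹ * a) • (1 : Matrix ι ι ℂ) = E by
      rw [hE, hA]; module]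
    exact ⟨EE, by rw [tE]; exact_mod_cast h⟩
  · refine ⟨-((B : ℂ) + 2 * a)⁻¹, ((B : ℂ) + 2 * a)⁻¹ * (B + a),
      mul_ne_zero (inv_ne_zero δ0) b0, ?_⟩
    rw [show -((B : ℂ) + 2 * a)⁻¹ • T + (((B : ℂ) + 2 * a)⁻¹ * (B + a)) • (1 : Matrix ι ι ℂ) =
      1 - E by
        rw [hE, hA, show ((B : ℂ) + 2 * a)⁻¹ * (B + a) = 1 - ((B : ℂ) + 2 * a)⁻¹ * a by
          field_simp; ring]
        module]
    refine ⟨by rw [sub_mul, mul_sub, mul_sub, EE]; simp, ?_⟩
    have : (k : ℂ) * (B + a) = 1 := by exact_mod_cast h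
    rw [trace_sub, trace_one, hN, tE]
    push_cast
    linear_combination this - hk

end Cfsg.Lib.HKS.SF
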